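import Cfsg.Agent.ThreeTrans.PairOrders
import Cfsg.Agent.Classical.OrthIndex
import Cfsg.Agent.Classical.ExcCore
import Cfsg.Agent.GraphForms.Classify
import Cfsg.Agent.FischerThm.Defs

/-!
# The classes of orthogonal groups inside a simple group

A non-abelian simple group is neither a full orthogonal group over the field with two elements nor a
reflection group in even dimension over the field with three elements; in odd dimension such a
projective reflection group is `PΩ`.
-/

set_option autoImplicit false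

open Module QuadraticMap Cfsg.Agent.Classical.Quad

namespace Cfsg.Agent.FischerThm.Final

variable {G : Type*} [Group G] [IsSimpleGroup G]

/-- A character of a non-abelian simple group is trivial. -/
theorem hom_eq_one (hna : ∃ x y : G, x * y ≠ y * x) {A : Type*} [CommGroup A] (f : G →* A) :
    ∀ g, f g = 1 := by
  rcases (inferInstance : f.ker.Normal).eq_bot_or_eq_top with h | h
  · obtain ⟨x, y, hxy⟩ := hna
    exact absurd ((f.ker_eq_bot_iff.1 h) (by rw [map_mul, map_mul, mul_comm])) hxy
  · intro g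
    exact MonoidHom.mem_ker.1 (h ▸ Subgroup.mem_top g)

/-- A non-abelian simple group is perfect. -/
theorem commutator_eq_top (hna : ∃ x y : G, x * y ≠ y * x) : commutator G = ⊤ := by
  refine eq_top_iff.2 fun g _ => ?_
  rw [← Abelianization.ker_of, MonoidHom.mem_ker]
  exact hom_eq_one hna _ g

/-- A quotient by the centre that is perfect comes from the commutator subgroup. -/
theorem equiv_commutator_mod_center {K R : Type*} [Group K] [Group R]
    (hK : commutator K = ⊤) (e : K ≃* R ⧸ Subgroup.center R) :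
    Nonempty (K ≃* ↥(commutator R) ⧸ Subgroup.center ↥(commutator R)) := by
  set π := QuotientGroup.mk' (Subgroup.center R)
  let f : ↥(commutator R) →* R ⧸ Subgroup.center R := π.comp (commutator R).subtype
  have hQ : commutator (R ⧸ Subgroup.center R) = ⊤ := by
    rw [commutator_def, ← Subgroup.map_top_of_surjective e.toMonoidHom e.surjective,
      ← Subgroup.map_commutator, ← commutator_def, hK]
  have hf : Function.Surjective f := by
    intro q
    have hq : q ∈ (commutator R).map π := by
      rw [commutator_def, Subgroup.map_commutator,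
        Subgroup.map_top_of_surjective π (QuotientGroup.mk'_surjective _), ← commutator_def, hQ]
      trivial
    obtain ⟨r, hr, rfl⟩ := hq
    exact ⟨⟨r, hr⟩, rfl⟩
  have hker : f.ker = Subgroup.center ↥(commutator R) := by
    ext w
    rw [MonoidHom.mem_ker]
    show π (w : R) = 1 ↔ _
    rw [QuotientGroup.mk'_apply, QuotientGroup.eq_one_iff]
    constructor
    · exact fun h => Subgroup.mem_center_iff.2 fun v =>
        Subtype.ext (Subgroup.mem_center_iff.1 h v)
    · intro h
      refine Subgroup.mem_center_iff.2 fun r => ?_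
      obtain ⟨l, hl⟩ := hf (π r)
      have hz : (l : R)⁻¹ * r ∈ Subgroup.center R := QuotientGroup.eq.1 hl
      have h1 : Commute (l : R) (w : R) := congrArg Subtype.val (Subgroup.mem_center_iff.1 h l)
      have h2 : Commute ((l : R)⁻¹ * r) (w : R) := (Subgroup.mem_center_iff.1 hz (w : R)).symm
      have h3 := h1.mul_left h2
      rwa [mul_inv_cancel_left] at h3
  exact ⟨e.trans ((QuotientGroup.quotientMulEquivOfEq hker.symm).trans
    (QuotientGroup.quotientKerEquivOfSurjective f hf)).symm⟩

/-- The full isometry group of a form over the field with two elements is not simple. -/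
theorem not_full_isometry {ι : Type} [Fintype ι] [DecidableEq ι] (hna : ∃ x y : G, x * y ≠ y * x)
    {Q : QuadraticForm (ZMod 2) (ι → ZMod 2)} (hQ : (polarBilin Q).Nondegenerate)
    (hn : 5 ≤ Fintype.card ι) (e : G ≃* ↥(Cfsg.isometryGroup (ZMod 2) ⇑Q)) : False := by
  have hd : finrank (ZMod 2) (ι → ZMod 2) = Fintype.card ι := Module.finrank_pi _
  have hex : Nat.card (ZMod 2) ≠ 2 ∨ finrank (ZMod 2) (ι → ZMod 2) ≠ 4 := Or.inr (by omega)
  obtain ⟨v, hv⟩ := exists_aniso hQ (by omega)
  have h := hom_eq_one hna ((dickson hQ hex).comp ((oEquiv Q).toMonoidHom.comp e.toMonoidHom))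
    (e.symm ((oEquiv Q).symm (rO hv)))
  simp [dickson_rO] at h

section Three

variable {n : ℕ} {Q : QuadraticForm (ZMod 3) (Fin n → ZMod 3)}

/-- In even dimension a projective reflection group is not simple. -/
theorem not_refl_even (hna : ∃ x y : G, x * y ≠ y * x) (hn : 5 ≤ n) (heven : Even n)
    (hQ : (polarBilin Q).Nondegenerate) {c : ZMod 3} (hc : c ≠ 0)
    (e : G ≃* ↥(Cfsg.reflectionSubgroup (⇑Q) c) ⧸
      Subgroup.center ↥(Cfsg.reflectionSubgroup (⇑Q) c)) : False := by
  have h2 : (2 : ZMod 3) ≠ 0 := by decide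
  have h5 : 5 ≤ finrank (ZMod 3) (Fin n → ZMod 3) := by rwa [finrank_fin_fun]
  have hex := hex_of_two h2 (finrank (ZMod 3) (Fin n → ZMod 3))
  set R := Cfsg.reflectionSubgroup (⇑Q) c
  let χ : ↥R →* ℤˣ := (dickson hQ hex).comp ((oEquiv Q).toMonoidHom.comp R.subtype)
  have hker : Subgroup.center ↥R ≤ χ.ker := by
    intro z hz
    rw [MonoidHom.mem_ker]
    set T := oEquiv Q (z : Cfsg.isometryGroup (ZMod 3) ⇑Q) with hT
    have hcomm : ∀ (p w : Fin n → ZMod 3) (hp : Q p = 0) (hw : polar Q p w = 0) x,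
        T.1 ((sO hp hw).1 x) = (sO hp hw).1 (T.1 x) := by
      intro p w hp hw x
      obtain ⟨g, hg, hge⟩ :
          sO hp hw ∈ (Cfsg.Omega (ZMod 3) ⇑Q).map (oEquiv Q).toMonoidHom := by
        rw [omega_map_eq hQ h5]; exact sO_mem_eo hp hw
      have hgR : g ∈ R := ThreeTrans.OrthThree.omega_le hn hQ hc hg
      have h' : (z : Cfsg.isometryGroup (ZMod 3) ⇑Q) * g = g * (z : _) :=
        (congrArg Subtype.val (Subgroup.mem_center_iff.1 hz ⟨g, hgR⟩)).symm
      have h'' := congrArg (fun y => (oEquiv Q y).1 x) h'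
      simp only [map_mul, Subgroup.coe_mul, LinearEquiv.mul_apply] at h''
      rw [show oEquiv Q g = sO hp hw from hge] at h''
      exact h''
    obtain ⟨a, ha, hax, -⟩ := AutPOmega.scalar_of_commute hQ h2 (by omega) (T := fun x => T.1 x)
      (τ := fun t => t) (fun x y => map_add T.1 x y) (fun t x => map_smul T.1 t x) T.1.injective hcomm
    show dsign T = 1
    by_cases h1 : a = 1
    · rw [show T = 1 from ext_oG fun x => by rw [hax, h1, one_smul, oG_one_apply]]
      exact dsign_one
    · have hfix : fixSub T = ⊥ := (Submodule.eq_bot_iff _).2 fun x hx => by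
        rw [mem_fixSub, hax] at hx
        have h3 : (a - 1) • x = 0 := by rw [sub_smul, one_smul, hx, sub_self]
        exact (smul_eq_zero.1 h3).resolve_left (sub_ne_zero.2 h1)
      rw [dsign, hfix, finrank_bot, add_zero, finrank_fin_fun, heven.neg_one_pow]
  obtain ⟨v, hv⟩ := exists_value hQ h2 (by omega) hc
  have hv' : Q v ≠ 0 := by rwa [hv]
  have hmem : (oEquiv Q).symm (rO hv') ∈ R := Subgroup.subset_closure ⟨v, hv,
    (matrix_eq_reflection_iff hv').2 ((oEquiv Q).apply_symm_apply _)⟩
  have h := hom_eq_one hna ((QuotientGroup.lift _ χ hker).comp e.toMonoidHom)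
    (e.symm (QuotientGroup.mk' _ (⟨_, hmem⟩ : ↥R)))
  simp [χ, dickson_rO] at h

/-- In odd dimension a simple projective reflection group is `PΩ`. -/
theorem pomega_of_refl_odd (hna : ∃ x y : G, x * y ≠ y * x) {m : ℕ} (hm : n = 2 * m + 1) (hn : 5 ≤ n)
    (hQ : (polarBilin Q).Nondegenerate) {c : ZMod 3} (hc : c ≠ 0)
    (e : G ≃* ↥(Cfsg.reflectionSubgroup (⇑Q) c) ⧸
      Subgroup.center ↥(Cfsg.reflectionSubgroup (⇑Q) c)) :
    Nonempty (G ≃* Cfsg.POmega (ZMod 3) (Cfsg.quadFormOdd m (ZMod 3))) := by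
  have h2 : (2 : ZMod 3) ≠ 0 := by decide
  have h5 : 5 ≤ finrank (ZMod 3) (Fin n → ZMod 3) := by rwa [finrank_fin_fun]
  set R := Cfsg.reflectionSubgroup (⇑Q) c
  -- the commutator subgroup of `R` is `Ω`
  have hle := ThreeTrans.OrthThree.omega_le hn hQ hc
  have heo : ⁅eo Q, eo Q⁆ = eo Q :=
    le_antisymm (Subgroup.commutator_le_self _) (eo_le_commutator_eo hQ h5)
  have hperf : ⁅Cfsg.Omega (ZMod 3) ⇑Q, Cfsg.Omega (ZMod 3) ⇑Q⁆ = Cfsg.Omega (ZMod 3) ⇑Q := by
    apply Subgroup.map_injective (f := (oEquiv Q).toMonoidHom) (oEquiv Q).injective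
    rw [Subgroup.map_commutator, omega_map_eq hQ h5, heo]
  have hR : ⁅R, R⁆ = Cfsg.Omega (ZMod 3) ⇑Q := le_antisymm
    (Subgroup.commutator_mono le_top le_top) (hperf ▸ Subgroup.commutator_mono hle hle)
  have hmap : (commutator ↥R).map R.subtype = Cfsg.Omega (ZMod 3) ⇑Q := by
    rw [Subgroup.map_subtype_commutator]; exact hR
  -- the standard form
  let S := AutPOmega.qOdd (ZMod 3) m
  have hSe : ⇑S = Cfsg.quadFormOdd m (ZMod 3) := funext fun x => AutPOmega.qOdd_apply (ZMod 3) m x
  have hS : (polarBilin S).Nondegenerate := GraphForms.nondeg_qOdd h2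
  obtain ⟨f⟩ := PrimeGraph.oG_iso (n := m) hQ hS (by rw [finrank_fin_fun, hm]) (by simp; omega)
  let φ : ↥(Cfsg.isometryGroup (ZMod 3) ⇑Q) ≃* ↥(Cfsg.isometryGroup (ZMod 3) ⇑S) :=
    ((oEquiv Q).trans f).trans (oEquiv S).symm
  have hφ : (Cfsg.Omega (ZMod 3) ⇑Q).map φ.toMonoidHom = Cfsg.Omega (ZMod 3) ⇑S := by
    show (commutator _).map _ = commutator _
    rw [commutator_def, commutator_def, Subgroup.map_commutator,
      Subgroup.map_top_of_surjective φ.toMonoidHom φ.surjective]
  let ψ : ↥(commutator ↥R) ≃* ↥(Cfsg.Omega (ZMod 3) ⇑S) :=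
    ((Subgroup.equivMapOfInjective _ R.subtype R.subtype_injective).trans
      (MulEquiv.subgroupCongr hmap)).trans ((φ.subgroupMap _).trans (MulEquiv.subgroupCongr hφ))
  obtain ⟨q⟩ := equiv_commutator_mod_center (commutator_eq_top hna) e
  rw [← hSe]
  exact ⟨q.trans (QuotientGroup.congr _ _ ψ (Classical.Exc.center_map_eq ψ))⟩

end Three

end Cfsg.Agent.FischerThm.Final
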