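import Cfsg.Agent.FischerThm.Final.Forms
import Cfsg.Agent.FischerThm.Glue
import Cfsg.Agent.ThreeTrans.InvolM23
import Cfsg.Agent.ThreeTrans.CountD
import Cfsg.Agent.S5375
import Cfsg.Prelude.Def_Sporadic

/-!
# The simple 3-transposition groups

The simple groups among the outcomes of Fischer's classification.
-/

set_option autoImplicit false

open Cfsg

namespace Cfsg.Agent.FischerThm.Final

open Cfsg.Agent.Classical.Quad in
/-- The plus and minus forms over the field with two elements are not those of a simple group. -/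
theorem not_oplus {G : Type*} [Group G] [IsSimpleGroup G] (hna : ∃ x y : G, x * y ≠ y * x)
    {D : Set G} {m : ℕ} (hm : 3 ≤ m) (h : OPlusAt D m) : False := by
  obtain ⟨e, -⟩ := h
  exact not_full_isometry hna (Q := AutPOmega.qPlus (ZMod 2) m) GraphForms.nondeg_qPlus
    (by simp; omega) e

/-- Likewise for the minus form. -/
theorem not_ominus {G : Type*} [Group G] [IsSimpleGroup G] (hna : ∃ x y : G, x * y ≠ y * x)
    {D : Set G} {m : ℕ} (hm : 2 ≤ m) (h : OMinusAt D m) : False := by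
  obtain ⟨e, -⟩ := h
  exact not_full_isometry hna (Q := AutPOmega.qMinus (ZMod 2) m 1 1)
    (GraphForms.nondeg_qMinus (by decide)) (by simp; omega) e

/-- A non-abelian simple group is not a symmetric group. -/
theorem not_symAt {G : Type*} [Group G] [IsSimpleGroup G] (hna : ∃ x y : G, x * y ≠ y * x)
    {D : Set G} {n : ℕ} (hn : 2 ≤ n) (h : SymAt D n) : False := by
  obtain ⟨e, -⟩ := h
  have h01 : (⟨0, by omega⟩ : Fin n) ≠ ⟨1, by omega⟩ := by simp [Fin.ext_iff]
  have h' := hom_eq_one hna (Equiv.Perm.sign.comp e.toMonoidHom)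
    (e.symm (Equiv.swap ⟨0, by omega⟩ ⟨1, by omega⟩))
  simp [Equiv.Perm.sign_swap h01] at h'

/-- A simple group of type M(22) has the order of Fi₂₂. -/
theorem isFi22 {G : Type*} [Group G] [Finite G] [hs : IsSimpleGroup G] {D : Set G}
    (hcls : IsThreeTranspositionClass D) (ht : IsOfTypeM22 G D) : IsFi22 G := by
  refine ⟨hs, ?_⟩
  have hD := ThreeTrans.class_toGroup hcls
  have hF := ThreeTrans.m22Full hD ht
  have hA : ∀ t ∈ D, ThreeTrans.Arcs (ThreeTrans.dperp D t) := ThreeTrans.arcs_of_M22 hD ht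
  have hC := ThreeTrans.layer_counts_M22 hD ht
  have hc := ThreeTrans.counts hD ht
  obtain ⟨a, ha, -⟩ := id hcls.2.1
  have hn := ThreeTrans.ncard_members hD ht.1 hF hA hC (fun x hx => (hc x hx).1)
    (fun x hx => (hc x hx).2.1) ha
  rw [← Subgroup.card_top, ThreeTrans.card_eq_orbit_mul ⊤ a D (fun g _ => hD.2.1 g a ha)
    (fun y hy => (ThreeTrans.class_isConj hcls ha hy).imp fun g hg => ⟨Subgroup.mem_top g, hg⟩),
    top_inf_eq, (hc a ha).2.2, hn]

/-- A simple group of type M(23) has the order of Fi₂₃. -/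
theorem isFi23 {G : Type*} [Group G] [Finite G] [hs : IsSimpleGroup G] {D : Set G}
    (H : Hyp D) (ht : IsOfTypeM23 G D) : IsFi23 G := by
  refine ⟨hs, ?_⟩
  have hD := H.group
  have hM := ThreeTrans.m23Data hD H.primitive ht
  obtain ⟨X, _, _, E, hE, hclsE, h22, hcov⟩ := ThreeTrans.exists_cover23 hD H.primitive ht
  obtain ⟨a, ha⟩ := H.nonempty
  rw [ThreeTrans.card_M23 hD H.cls hM hE hclsE h22 hcov ha]
  norm_num

/-- A simple group is not of type M(24). -/
theorem not_m24 {G : Type*} [Group G] [Finite G] [IsSimpleGroup G] {D : Set G}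
    (H : Hyp D) (ht : IsOfTypeM24 G D) : False := by
  obtain ⟨hidx, -, hcard, -⟩ := Agent.S5375.result H.group H.primitive ht
  have hn : (Cfsg.layer G).Normal := inferInstance
  rcases hn.eq_bot_or_eq_top with h | h
  · rw [h, Subgroup.index_bot, hcard] at hidx
    norm_num at hidx
  · rw [h, Subgroup.index_top] at hidx
    omega

/-- The simple groups among the outcomes. -/
theorem simple_of_known {G : Type*} [Group G] [Finite G] [IsSimpleGroup G]
    (hna : ∃ x y : G, x * y ≠ y * x) {D : Set G} (H : Hyp D) (h : Known D) :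
    (∃ n : ℕ, Nonempty (G ≃* Matrix.symplecticGroup (Fin n) (ZMod 2))) ∨
    (∃ (F : Type) (_ : Field F) (_ : Fintype F) (n : ℕ), Fintype.card F = 4 ∧
      Nonempty (G ≃* Cfsg.PSU n F 2)) ∨
    (∃ m : ℕ, Nonempty (G ≃* Cfsg.POmega (ZMod 3) (Cfsg.quadFormOdd m (ZMod 3)))) ∨
    Cfsg.IsFi22 G ∨ Cfsg.IsFi23 G := by
  rcases h with (h | ⟨m, -, e, -⟩ | ⟨n, -, F, hF, hFt, hcard, e, -⟩) |
    (⟨n, hn, h⟩ | ⟨m, hm, h⟩ | ⟨m, hm, h⟩ | ⟨n, hn, Q, hQ, c, hc, e, -⟩ | h | h | h)
  · exact (not_symAt hna (by omega) h).elim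
  · exact Or.inl ⟨m, ⟨e⟩⟩
  · exact Or.inr (Or.inl ⟨F, hF, hFt, n, hcard, ⟨e⟩⟩)
  · exact (not_symAt hna (by omega) h).elim
  · exact (not_oplus hna hm h).elim
  · exact (not_ominus hna hm h).elim
  · rcases Nat.even_or_odd' n with ⟨m, rfl | rfl⟩
    · exact (not_refl_even hna hn (even_two_mul m) hQ hc e).elim
    · exact Or.inr (Or.inr (Or.inl ⟨m, pomega_of_refl_odd hna rfl hn hQ hc e⟩))
  · exact Or.inr (Or.inr (Or.inr (Or.inl (isFi22 H.cls h))))
  · exact Or.inr (Or.inr (Or.inr (Or.inr (isFi23 H h))))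
  · exact (not_m24 H h).elim

/-- A non-abelian simple group satisfies the hypothesis of the induction. -/
theorem hyp_of_isSimpleGroup {G : Type*} [Group G] [Finite G] [IsSimpleGroup G]
    (hna : ∃ x y : G, x * y ≠ y * x) {D : Set G} (hD : IsThreeTranspositionClass D) : Hyp D := by
  have hns : ¬ Group.IsSolvable G := fun h => by
    obtain ⟨x, y, hxy⟩ := hna
    exact hxy ((IsSimpleGroup.comm_iff_isSolvable (G := G)).2 h x y)
  refine ⟨hD, fun N hN hsol => ?_, ?_⟩
  · rcases hN.eq_bot_or_eq_top with h | h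
    · exact h
    · subst h
      exact absurd (Group.isSolvable_of_surjective (f := (⊤ : Subgroup G).subtype)
        fun g => ⟨⟨g, Subgroup.mem_top g⟩, rfl⟩) hns
  · rw [commutator_eq_top hna, ← commutator_def, commutator_eq_top hna]

universe u

/-- The simple 3-transposition groups, given the cases of Fischer's classification. -/
theorem fischer_simple (C : Cases.{u}) {G : Type u} [Group G] [Finite G] [IsSimpleGroup G]
    (hna : ∃ x y : G, x * y ≠ y * x) {D : Set G} (hD : Cfsg.IsThreeTranspositionClass D) :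
    (∃ n : ℕ, Nonempty (G ≃* Matrix.symplecticGroup (Fin n) (ZMod 2))) ∨
    (∃ (F : Type) (_ : Field F) (_ : Fintype F) (n : ℕ), Fintype.card F = 4 ∧
      Nonempty (G ≃* Cfsg.PSU n F 2)) ∨
    (∃ m : ℕ, Nonempty (G ≃* Cfsg.POmega (ZMod 3) (Cfsg.quadFormOdd m (ZMod 3)))) ∨
    Cfsg.IsFi22 G ∨ Cfsg.IsFi23 G :=
  have H := hyp_of_isSimpleGroup hna hD
  simple_of_known hna H (known C H)

end Cfsg.Agent.FischerThm.Final
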